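import Cfsg.Agent.Lib.U34.Arith

/-! Coded matrices for the centralizer of an involution in `SU₃(4)` (script-generated). Owner: helper42. -/

set_option autoImplicit false

namespace Cfsg.Agent.Lib.Tech42.Order320

def tN : Nat := 0x100001010
def sN : Nat := 0xf22728782
def aN : Nat := 0x100001010
def bN : Nat := 0x100067076
def abN : Nat := 0x100076067
def x0N : Nat := 0x111123132
def x1N : Nat := 0x188f32f23
def x2N : Nat := 0x1cca23a32
def x3N : Nat := 0x1aac45c54
def classD : Nat := 0x7fd86eb907fb866d607f78657407f38642507f28693e07e09700017dfb098e67dcb05a467dab0ec967d8b06f667d1b041567cda64b507cba6ed907c7a697e07c3a652407c2a663607bfd068667bcd09ae67bad04c567b8d0ef967b1d051467adc69be07abc65d407a7c6e7907a3c662607a2c64350790e7000178df66b6078bf69de0787f64750783f6e290782f6534077f70485677c70ea9677a709ce6778705f4677170616676067000175047000174057000173f20584673c204a5673a206c66738209fe673120e19672f30e89672c306a6672a305c46728304f567213091e671d165b4071b164d507171667607131692e071216e39070e010907709010e077060106077050104077040105076fe8739206f987bed06f687d6b06f58724306f48775706ef9028376ec907a776ea90dcb76e890bfd76e19031276d0b600016cea779706c9a7deb06c6a736206c5a7b4d06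c4a725306b0d600016aec7b9d06a9c77e706a6c726306a5c734206a4c7d5b069fe0d8b769ce0bad769ae07c77698e03f27691e0213768ef7d9b0689f72e30686f7b6d0685f77470684f7352067076000166f60b8d766c602a3766a603c2766860dfb766160717765f40382765c40dab765a402c37658407f7765140b1d764f50787764c503a2764a50bcd7648502f3764150d1b763026000162036000161e172930619173e2061617767061517d4b061417b5d060d010b0660b010d0660701070660301020660201030610007e0971000790e710007606710007504710007405710006d0b610006b0d610006707610006302610006203610000f08010000c0a010000a0c01000080f01000010100f08000010ed96fb870eb96cda70e796a7c70e39682f70e29613170deb789f60d9b7cea60d6b7f6860d5b714160d4b7a5c60c0a000010bed7a9c60b9d7fe860b6d786f60b5d7c4a60b4d715160a0c0000109de6abc709be68df7097e6c7a7093e61217092e6f387080f0000107e77c9a607977aec60767716160757784f607477f58606d668bf706b66fd8706766171706366a2c706266c3a705d461b1705b46adc705746f78705346c2a70524683f704d56cba704b561d170475687f704356f28704256a3c703e27f986039271e1603627c6a603527a4c60342785f602e371916029378ef602637a6c602537f48602437c5a601010000100f01080000c010a0000a010c00008010f00001010100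
def conjD : Nat := 0x4037040c0e033040f0903b040a0503204010603d04080075052a009d0001be05d0001b40ed0001b906d0001b604d0001b5050db0401040d2040c060d30408090dd040a0e0d7040f06b0001d609b0001de04b0001d50eb0001d905b0001d406022040809027040a0402d040c0e02b040f05023040100b9092f00e07d040f0607b040805077040104073040c09072040a0470001750e700017909700017e0570001740670001760034052100025092800074092a005300012404300012506300012609300012e0e30001290e200013906200013605200013404200013509200013e090b3040a050bd04010e0b2040f060b70408040bb040c05f4f22420ef41224d04f4c224b06f4a224309f4822470b056020f07055020a0205902080305402010d05e020c02e00019307e0001970de00019b0be00019d03e0001920024062800d044020c0204602080b04e020f07049020a0304502010026042800706e020a0d069020c0306602010b065020f0206402080d90001eb0b90001ed0790001e70390001e20290001e30209502080309e020107094020a0d096020c0b099020f0035042100b600016d0260001630360001620d600016b0760001670350001420d500014b0250001430750001470b500014d0740001570340001520b400015d0240001530d400015b00d4042c0003606210030e902010b0e4020f0d0e5020c020ee0208070e6020a07c2c44b503c2144b90bc2844be02c2f44b40dc2a44b60f225f4420122ef44d0c224f44b0a226f44308229f4470c447c2b501443c2b90844bc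2be0f442c2b40a44dc2b60f00001080c000010a0a000010c08000010f0100001010001080f00001d90eb0001b90ed0001790e70001390e20001290e30001eb0d900019b0de00016b0d600015b0d400014b0d500010a0c00001ed0b900019d0be00016d0b600015d0b400014d0b500010c0a00001de09b0001be09d00017e09700013e09200012e09300010f0800001e707900019707e0001670760001570740001470750001d606b0001b606d0001760670001360620001260630001d405b0001b405d0001740570001340520001240530001d504b0001b504d0001750470001350420001250430001e203900019203e0001620360001520340001420350001e302900019302e0001630260001530240001430250001010100001f00080001c000a0001a000c00018000f0001100010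

end Cfsg.Agent.Lib.Tech42.Order320
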