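import Mathlib

/-!
Groups of order 320 generated by an element `x₀` of order 4 and an element `s` of order 5 subject to the
relations of the centralizer of an involution in `PSU₃(4)`: two such are connected by a homomorphism.

Owner: helper42.
-/

set_option autoImplicit false
set_option linter.style.haveILetI false
set_option linter.unusedSimpArgs false

namespace Cfsg.Agent.Lib.Tech42.Order320

/-- The relations. -/
structure Rel {H : Type*} [Group H] (a b x0 x1 x2 x3 s : H) : Prop where
  aa : a * a = 1
  bb : b * b = 1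
  ab : Commute a b
  as : Commute s a
  bs : Commute s b
  ax0 : Commute x0 a
  ax1 : Commute x1 a
  ax2 : Commute x2 a
  ax3 : Commute x3 a
  bx0 : Commute x0 b
  bx1 : Commute x1 b
  bx2 : Commute x2 b
  bx3 : Commute x3 b
  sq0 : x0 * x0 = a
  sq1 : x1 * x1 = a
  sq2 : x2 * x2 = a
  sq3 : x3 * x3 = a
  c10 : x1 * x0 = b * (x0 * x1)
  c21 : x2 * x1 = b * (x1 * x2)
  c32 : x3 * x2 = b * (x2 * x3)
  c20 : x2 * x0 = a * (b * (x0 * x2))
  c31 : x3 * x1 = a * (b * (x1 * x3))
  c30 : x3 * x0 = a * (b * (x0 * x3))
  s0 : s * x0 = x1 * s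
  s1 : s * x1 = x2 * s
  s2 : s * x2 = x3 * s
  s3 : s * x3 = x0 * (x1 * (x2 * (x3 * s)))
  s5 : s ^ 5 = 1

/-- Conditional power. -/
def pw {H : Type*} [Group H] (h : H) (e : Bool) : H := cond e h 1

/-- Codes of the elements. -/
abbrev Code : Type := (Bool × Bool) × (Bool × Bool × Bool × Bool) × Fin 5

/-- Left multiplication by `x₀` on codes. -/
def stepX : Code → Code
  | ((e0, e1), (f0, f1, f2, f3), k) => ((xor e0 f0, e1), (!f0, f1, f2, f3), k)

/-- Left multiplication by `s` on codes. -/
def stepS : Code → Code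
  | ((e0, e1), (f0, f1, f2, false), k) => ((e0, e1), (false, f0, f1, f2), k + 1)
  | ((e0, e1), (f0, f1, f2, true), k) =>
      ((xor e0 (xor f0 f2), xor e1 (xor f0 f2)), (true, !f0, !f1, !f2), k + 1)

/-- The element of a code. -/
def phi {H : Type*} [Group H] (a b x0 x1 x2 x3 s : H) : Code → H
  | ((e0, e1), (f0, f1, f2, f3), k) =>
      pw a e0 * (pw b e1 * (pw x0 f0 * (pw x1 f1 * (pw x2 f2 * (pw x3 f3 * s ^ k.val)))))

section

variable {H : Type*} [Group H] {a b x0 x1 x2 x3 s : H}

theorem two_step {u v w : H} (h : u * v = w) (t : H) : u * (v * t) = w * t := by rw [← mul_assoc, h]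

theorem Rel.pow_succ_fin (R : Rel a b x0 x1 x2 x3 s) (k : Fin 5) : s * s ^ k.val = s ^ (k + 1).val := by
  rw [← pow_succ', Fin.val_add, show ((1 : Fin 5) : ℕ) = 1 from rfl]
  exact pow_eq_pow_mod _ R.s5

theorem Rel.phi_stepX (R : Rel a b x0 x1 x2 x3 s) (c : Code) :
    phi a b x0 x1 x2 x3 s (stepX c) = x0 * phi a b x0 x1 x2 x3 s c := by
  obtain ⟨⟨e0, e1⟩, ⟨f0, f1, f2, f3⟩, k⟩ := c
  simp only [stepX, phi]
  have h1 := fun t => two_step R.ax0.eq t
  have h2 := fun t => two_step R.bx0.eq t
  have h3 := fun t => two_step R.aa t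
  have h4 := fun t => two_step R.sq0 t
  have h5 := fun t => two_step R.ab.eq.symm t
  simp only [mul_assoc, one_mul] at h1 h2 h3 h5
  cases e0 <;> cases e1 <;> cases f0 <;>
    simp only [pw, cond_true, cond_false, Bool.not_true, Bool.not_false, Bool.false_bne, Bool.true_bne,
      Bool.bne_false, Bool.bne_true, Bool.xor_false, Bool.xor_true, one_mul, h1, h2, h3, h4, h5]

theorem Rel.phi_stepS (R : Rel a b x0 x1 x2 x3 s) (c : Code) :
    phi a b x0 x1 x2 x3 s (stepS c) = s * phi a b x0 x1 x2 x3 s c := by
  obtain ⟨⟨e0, e1⟩, ⟨f0, f1, f2, f3⟩, k⟩ := c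
  have sa := fun t => two_step R.as.eq t
  have sb := fun t => two_step R.bs.eq t
  have a0 := fun t => two_step R.ax0.eq t
  have a1 := fun t => two_step R.ax1.eq t
  have a2 := fun t => two_step R.ax2.eq t
  have a3 := fun t => two_step R.ax3.eq t
  have b0 := fun t => two_step R.bx0.eq t
  have b1 := fun t => two_step R.bx1.eq t
  have b2 := fun t => two_step R.bx2.eq t
  have b3 := fun t => two_step R.bx3.eq t
  have q0 := fun t => two_step R.sq0 t
  have q1 := fun t => two_step R.sq1 t
  have q2 := fun t => two_step R.sq2 t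
  have q3 := fun t => two_step R.sq3 t
  have qa := fun t => two_step R.aa t
  have qb := fun t => two_step R.bb t
  have ba := fun t => two_step R.ab.eq.symm t
  have c10 := fun t => two_step R.c10 t
  have c21 := fun t => two_step R.c21 t
  have c32 := fun t => two_step R.c32 t
  have c20 := fun t => two_step R.c20 t
  have c31 := fun t => two_step R.c31 t
  have c30 := fun t => two_step R.c30 t
  have s0 := fun t => two_step R.s0 t
  have s1 := fun t => two_step R.s1 t
  have s2 := fun t => two_step R.s2 t
  have s3 := fun t => two_step R.s3 t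
  have sk := R.pow_succ_fin k
  simp only [mul_assoc, one_mul] at sa sb a0 a1 a2 a3 b0 b1 b2 b3 q0 q1 q2 q3 qa qb ba c10 c21 c32 c20 c31 c30 s0 s1 s2 s3
  cases f0 <;> cases f1 <;> cases f2 <;> cases f3 <;> cases e0 <;> cases e1 <;>
    simp only [stepS, phi, pw, cond_true, cond_false, Bool.not_true, Bool.not_false, Bool.xor_false,
      Bool.xor_true, Bool.bne_false, Bool.bne_true, Bool.false_bne, Bool.true_bne, one_mul,
      sa, sb, a0, a1, a2, a3, b0, b1, b2, b3, q0, q1, q2, q3, qa, qb, ba, c10, c21, c32, c20, c31, c30,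
      s0, s1, s2, s3, sk]

theorem phi_one (a b x0 x1 x2 x3 s : H) :
    phi a b x0 x1 x2 x3 s ((false, false), (false, false, false, false), 0) = 1 := by
  simp [phi, pw]

theorem Rel.phi_surjective [Finite H] (R : Rel a b x0 x1 x2 x3 s)
    (hgen : Subgroup.closure ({x0, s} : Set H) = ⊤) : Function.Surjective (phi a b x0 x1 x2 x3 s) := by
  intro g
  have hg : g ∈ Submonoid.closure ({x0, s} : Set H) := by
    rw [← Subgroup.closure_toSubmonoid_of_finite, hgen]
    exact Subgroup.mem_top g
  induction hg using Submonoid.closure_induction_left with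
  | one => exact ⟨_, phi_one ..⟩
  | mul_left x hx y _ hy =>
    obtain ⟨c, rfl⟩ := hy
    rcases hx with rfl | rfl
    · exact ⟨_, R.phi_stepX c⟩
    · exact ⟨_, R.phi_stepS c⟩

theorem card_code : Nat.card Code = 320 := by
  simp [Code]

theorem Rel.phi_bijective [Finite H] (R : Rel a b x0 x1 x2 x3 s)
    (hgen : Subgroup.closure ({x0, s} : Set H) = ⊤) (hH : Nat.card H = 320) :
    Function.Bijective (phi a b x0 x1 x2 x3 s) :=
  (Nat.bijective_iff_surjective_and_card _).2 ⟨R.phi_surjective hgen, by rw [card_code, hH]⟩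

end

/-- A group of order 320 generated subject to the relations maps to every group with such elements. -/
theorem Rel.exists_hom {G H : Type*} [Group G] [Finite G] [Group H]
    {a b x0 x1 x2 x3 s : G} {a' b' y0 y1 y2 y3 r : H}
    (R : Rel a b x0 x1 x2 x3 s) (R' : Rel a' b' y0 y1 y2 y3 r)
    (hgen : Subgroup.closure ({x0, s} : Set G) = ⊤) (hG : Nat.card G = 320) :
    ∃ ψ : G →* H, ψ a = a' ∧ ψ b = b' ∧ ψ x0 = y0 ∧ ψ s = r := by
  classical
  let e : Code ≃ G := Equiv.ofBijective _ (R.phi_bijective hgen hG)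
  let f : G → H := fun g => phi a' b' y0 y1 y2 y3 r (e.symm g)
  have hf : ∀ c, f (phi a b x0 x1 x2 x3 s c) = phi a' b' y0 y1 y2 y3 r c := by
    intro c
    show phi _ _ _ _ _ _ _ (e.symm (e c)) = _
    rw [e.symm_apply_apply]
  have hx : ∀ y, f (x0 * y) = y0 * f y := by
    intro y
    obtain ⟨c, rfl⟩ := (R.phi_bijective hgen hG).2 y
    rw [← R.phi_stepX, hf, hf, R'.phi_stepX]
  have hs : ∀ y, f (s * y) = r * f y := by
    intro y
    obtain ⟨c, rfl⟩ := (R.phi_bijective hgen hG).2 y
    rw [← R.phi_stepS, hf, hf, R'.phi_stepS]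
  have hone : f 1 = 1 := by
    rw [← phi_one a b x0 x1 x2 x3 s, hf, phi_one]
  have hmul : ∀ u y, f (u * y) = f u * f y := by
    intro u
    have hu : u ∈ Submonoid.closure ({x0, s} : Set G) := by
      rw [← Subgroup.closure_toSubmonoid_of_finite, hgen]
      exact Subgroup.mem_top u
    induction hu using Submonoid.closure_induction_left with
    | one => intro y; rw [one_mul, hone, one_mul]
    | mul_left x hx' v _ hv =>
      intro y
      rcases hx' with rfl | rfl
      · rw [mul_assoc, hx, hx, hv, mul_assoc]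
      · rw [mul_assoc, hs, hs, hv, mul_assoc]
  refine ⟨MonoidHom.mk' f hmul, ?_, ?_, ?_, ?_⟩
  · have h : phi a b x0 x1 x2 x3 s ((true, false), (false, false, false, false), 0) = a := by
      simp [phi, pw]
    have h' := hf ((true, false), (false, false, false, false), 0)
    rw [h] at h'
    simpa [phi, pw] using h'
  · have h : phi a b x0 x1 x2 x3 s ((false, true), (false, false, false, false), 0) = b := by
      simp [phi, pw]
    have h' := hf ((false, true), (false, false, false, false), 0)
    rw [h] at h'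
    simpa [phi, pw] using h'
  · have h := hx 1
    rwa [mul_one, hone, mul_one] at h
  · have h := hs 1
    rwa [mul_one, hone, mul_one] at h

theorem Rel.distinct {G : Type*} [Group G] [Finite G] {a b x0 x1 x2 x3 s : G}
    (R : Rel a b x0 x1 x2 x3 s) (hgen : Subgroup.closure ({x0, s} : Set G) = ⊤) (hG : Nat.card G = 320) :
    a ≠ 1 ∧ b ≠ 1 ∧ a ≠ b := by
  have hi := (R.phi_bijective hgen hG).1
  refine ⟨fun h => ?_, fun h => ?_, fun h => ?_⟩
  · have := @hi ((true, false), (false, false, false, false), 0) ((false, false), (false, false, false, false), 0)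
      (by simpa [phi, pw] using h)
    simp at this
  · have := @hi ((false, true), (false, false, false, false), 0) ((false, false), (false, false, false, false), 0)
      (by simpa [phi, pw] using h)
    simp at this
  · have := @hi ((true, false), (false, false, false, false), 0) ((false, true), (false, false, false, false), 0)
      (by simpa [phi, pw] using h)
    simp at this

end Cfsg.Agent.Lib.Tech42.Order320
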