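import Mathlib
import Cfsg.Agent.Lib.Tech42.Order320.Structure

/-!
A group of order 320 whose derived group has order 64 and centre a Klein four-group satisfies the relations
of `Lib.Tech42.Order320.Rel`.

Owner: helper42.
-/

set_option autoImplicit false
set_option linter.style.haveILetI false
set_option linter.unusedSimpArgs false

namespace Cfsg.Agent.Lib.Tech42.Order320

open Subgroup
open scoped commutatorElement

variable {G : Type*} [Group G]

theorem comm_absorb {p q x y : G} (hxq : Commute x q) (hyp : Commute y p) (hxy : Commute x y) :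
    ⁅p * x, q * y⁆ = ⁅p, q⁆ := by
  simp only [commutatorElement_def, mul_inv_rev, mul_assoc]
  rw [hxq.left_comm]
  rw [← mul_assoc x y, hxy.eq, mul_assoc, mul_inv_cancel_left, hyp.inv_right.left_comm, mul_inv_cancel_left]

/-- A derived subgroup which is a nontrivial `p`-group is not centralised by a complementary element. -/
theorem not_centralize [Finite G] {p : ℕ} [Fact p.Prime] {P : Subgroup G} [P.Normal] (hp : IsPGroup p P)
    (hne : P ≠ ⊥) (hD : commutator G = P) {n : G} (hsup : P ⊔ zpowers n = ⊤)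
    (hc : ∀ q ∈ P, Commute n q) : False := by
  have hle : commutator G ≤ ⁅P, P⁆ := by
    rw [commutator_def, commutator_le]
    intro g _ h _
    have hg : g ∈ ((P ⊔ zpowers n : Subgroup G) : Set G) := by rw [hsup]; exact mem_top g
    have hh : h ∈ ((P ⊔ zpowers n : Subgroup G) : Set G) := by rw [hsup]; exact mem_top h
    rw [Subgroup.normal_mul] at hg hh
    obtain ⟨u, hu, _, ⟨i, rfl⟩, rfl⟩ := Set.mem_mul.1 hg
    obtain ⟨v, hv, _, ⟨j, rfl⟩, rfl⟩ := Set.mem_mul.1 hh
    show ⁅u * n ^ i, v * n ^ j⁆ ∈ ⁅P, P⁆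
    rw [comm_absorb ((hc v hv).zpow_left i) ((hc u hu).zpow_left j) (Commute.zpow_zpow (Commute.refl n) i j)]
    exact commutator_mem_commutator hu hv
  haveI : Nontrivial P := P.nontrivial_iff_ne_bot.2 hne
  haveI : Group.IsNilpotent P := hp.isNilpotent
  have hlt : commutator P < ⊤ := Group.IsSolvable.commutator_lt_top_of_nontrivial P
  apply hlt.ne
  apply Subgroup.map_injective P.subtype_injective
  rw [map_subtype_commutator, ← MonoidHom.range_eq_map, P.range_subtype]
  exact le_antisymm P.commutator_le_self (hD ▸ hle)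

/-- Fixed points of an element of order five on a subgroup it normalises. -/
theorem card_modEq_fixed [Finite G] {s : G} (hs : orderOf s = 5) (N : Subgroup G)
    (hN : s ∈ normalizer (N : Set G)) :
    Nat.card N ≡ Nat.card ↥(N ⊓ centralizer ({s} : Set G)) [MOD 5] := by
  haveI : Fact (Nat.Prime 5) := ⟨by norm_num⟩
  let φ : zpowers s →* MulAut N := N.normalizerMonoidHom.comp (inclusion (zpowers_le.2 hN))
  letI : MulAction (zpowers s) N := MulAction.compHom N φ
  have h5 : IsPGroup 5 (zpowers s) := IsPGroup.of_card (n := 1) (by rw [Nat.card_zpowers, hs, pow_one])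
  have hval : ∀ (g : zpowers s) (n : N), ((g • n : N) : G) = g.1 * n.1 * g.1⁻¹ := fun g n => rfl
  have e : MulAction.fixedPoints (zpowers s) N ≃ ↥(N ⊓ centralizer ({s} : Set G)) :=
    { toFun := fun n => ⟨n.1.1, Subgroup.mem_inf.2 ⟨n.1.2, mem_centralizer_singleton_iff.2 (by
        have h := congrArg Subtype.val (n.2 ⟨s, mem_zpowers s⟩)
        rw [hval] at h
        exact ((eq_mul_inv_iff_mul_eq.1 h.symm)))⟩⟩
      invFun := fun n => ⟨⟨n.1, n.2.1⟩, fun g => Subtype.ext (by
        rw [hval]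
        obtain ⟨i, hi⟩ := g.2
        have hc : Commute s n.1 := (mem_centralizer_singleton_iff.1 n.2.2).symm
        rw [← hi, (hc.zpow_left i).eq, mul_inv_cancel_right])⟩
      left_inv := fun n => rfl
      right_inv := fun n => rfl }
  rw [← Nat.card_congr e]
  exact h5.card_modEq_card_fixedPoints (α := N)

theorem mem_normalizer_of_normal (N : Subgroup G) [N.Normal] (s : G) : s ∈ normalizer (N : Set G) := by
  rw [Subgroup.normalizer_eq_top]; exact mem_top s

/-- The relations from their generating part. -/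
theorem rel_of {s y0 y1 y2 y3 y4 a b c d : G} (h0 : s * y0 = y1 * s) (h1 : s * y1 = y2 * s)
    (h2 : s * y2 = y3 * s) (h3 : s * y3 = y4 * s) (h4 : s * y4 = y0 * s)
    (hy4 : y4 = y0 * (y1 * (y2 * y3)))
    (ha : a ∈ center G) (hb : b ∈ center G) (hc : c ∈ center G) (hd : d ∈ center G)
    (aa : a * a = 1) (bb : b * b = 1) (cc : c * c = 1) (dd : d * d = 1)
    (q0 : y0 * y0 = a) (e1 : y1 * y0 = b * (y0 * y1)) (e2 : y2 * y0 = c * (y0 * y2))
    (e3 : y3 * y0 = d * (y0 * y3)) (s5 : s ^ 5 = 1) : Rel a b y0 y1 y2 y3 s := by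
  have sh : ∀ {g : G}, g ∈ center G → ∀ t, t * g = g * t := fun hg t => mem_center_iff.1 hg t
  have conj : ∀ {u v : G}, s * u = v * s → MulAut.conj s u = v := fun {u v} h => by
    rw [MulAut.conj_apply, h, mul_inv_cancel_right]
  have fix : ∀ {g : G}, g ∈ center G → MulAut.conj s g = g := fun hg => conj (sh hg s)
  have q1 : y1 * y1 = a := by
    have := congrArg (MulAut.conj s) q0
    rwa [map_mul, conj h0, fix ha] at this
  have q2 : y2 * y2 = a := by
    have := congrArg (MulAut.conj s) q1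
    rwa [map_mul, conj h1, fix ha] at this
  have q3 : y3 * y3 = a := by
    have := congrArg (MulAut.conj s) q2
    rwa [map_mul, conj h2, fix ha] at this
  have q4 : y4 * y4 = a := by
    have := congrArg (MulAut.conj s) q3
    rwa [map_mul, conj h3, fix ha] at this
  have e21 : y2 * y1 = b * (y1 * y2) := by
    have := congrArg (MulAut.conj s) e1
    rwa [map_mul, map_mul, map_mul, conj h0, conj h1, fix hb] at this
  have e32 : y3 * y2 = b * (y2 * y3) := by
    have := congrArg (MulAut.conj s) e21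
    rwa [map_mul, map_mul, map_mul, conj h1, conj h2, fix hb] at this
  have e31 : y3 * y1 = c * (y1 * y3) := by
    have := congrArg (MulAut.conj s) e2
    rwa [map_mul, map_mul, map_mul, conj h0, conj h2, fix hc] at this
  have t10 := fun t => two_step e1 t
  have t20 := fun t => two_step e2 t
  have t30 := fun t => two_step e3 t
  have t21 := fun t => two_step e21 t
  have t32 := fun t => two_step e32 t
  have t31 := fun t => two_step e31 t
  have la : ∀ u t, u * (a * t) = a * (u * t) := fun u t => by rw [← mul_assoc, sh ha, mul_assoc]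
  have lb : ∀ u t, u * (b * t) = b * (u * t) := fun u t => by rw [← mul_assoc, sh hb, mul_assoc]
  have lc : ∀ u t, u * (c * t) = c * (u * t) := fun u t => by rw [← mul_assoc, sh hc, mul_assoc]
  have ld : ∀ u t, u * (d * t) = d * (u * t) := fun u t => by rw [← mul_assoc, sh hd, mul_assoc]
  have qa := fun t => two_step aa t
  have qb := fun t => two_step bb t
  have qc := fun t => two_step cc t
  simp only [mul_assoc, one_mul] at t10 t20 t30 t21 t32 t31 qa qb qc
  have hdc : d = c := by
    have k1 : y4 * (y0 * 1) = b * (c * (d * (y0 * (y4 * 1)))) := by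
      rw [hy4]
      simp only [mul_assoc, t30, t20, t10, la y0, la y1, la y2, la y3, lb y0, lb y1, lb y2, lb y3, lc y0, lc y1,
        lc y2, lc y3, ld y0, ld y1, ld y2, ld y3, lb c, lb d, lc d]
    simp only [mul_one] at k1
    have k2 := congrArg (MulAut.conj s) k1
    rw [map_mul, map_mul, map_mul, map_mul, map_mul, conj h4, conj h0, fix hb, fix hc, fix hd, e1] at k2
    simp only [← mul_assoc] at k2
    have k3 : b * c * d * b = 1 := by
      rw [mul_assoc (b * c * d * b)] at k2
      exact mul_eq_right.1 k2.symm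
    have k4 : c * d = 1 := by
      have := sh hb (b * c * d)
      rw [k3, ← mul_assoc, ← mul_assoc, bb, one_mul] at this
      exact this.symm
    exact (mul_left_cancel (k4.trans cc.symm))
  subst hdc
  have k5 : a = b * (d * 1) := by
    have k : y4 * (y4 * 1) = b * (d * 1) := by
      rw [hy4]
      have w0 := fun t => two_step q0 t
      have w1 := fun t => two_step q1 t
      have w2 := fun t => two_step q2 t
      have w3 := fun t => two_step q3 t
      simp only [mul_assoc, t30, t20, t10, t21, t31, t32, w0, w1, w2, w3, la y0, la y1, la y2, la y3, lb y0,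
        lb y1, lb y2, lb y3, ld y0, ld y1, ld y2, ld y3, la b, la d, lb d, qa, qb, qc, ← pow_two]
    rwa [mul_one, q4] at k
  rw [mul_one] at k5
  have k6 : d = a * b := by rw [k5, mul_assoc, sh hb d, ← mul_assoc, bb, one_mul]
  have e2' : y2 * y0 = a * (b * (y0 * y2)) := by rw [e2, k6, mul_assoc]
  have e3' : y3 * y0 = a * (b * (y0 * y3)) := by rw [e3, k6, mul_assoc]
  have e31' : y3 * y1 = a * (b * (y1 * y3)) := by rw [e31, k6, mul_assoc]
  exact ⟨aa, bb, (sh hb a), sh ha s, sh hb s, sh ha _, sh ha _, sh ha _, sh ha _, sh hb _, sh hb _, sh hb _,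
    sh hb _, q0, q1, q2, q3, e1, e21, e32, e2', e31', e3', h0, h1, h2,
    by rw [h3, hy4]; simp only [mul_assoc], s5⟩

/-- The generators of a group of order 320 with derived group of order 64 and Klein centre of that. -/
theorem exists_rel [Finite G] (hG : Nat.card G = 320) (hD : Nat.card (commutator G) = 64)
    (hZ : IsKleinFour (center (commutator G))) :
    ∃ a b x0 x1 x2 x3 s : G, Rel a b x0 x1 x2 x3 s ∧ closure ({x0, s} : Set G) = ⊤ ∧
      ∀ N : Subgroup G, N.Normal → N ≠ ⊥ → a ∈ N ∨ b ∈ N ∨ a * b ∈ N := by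
  classical
  haveI : Fact (Nat.Prime 2) := ⟨Nat.prime_two⟩
  haveI : Fact (Nat.Prime 5) := ⟨by norm_num⟩
  set P := commutator G with hPdef
  haveI : P.Normal := by rw [hPdef]; infer_instance
  have hP2 : IsPGroup 2 P := IsPGroup.of_card (n := 6) hD
  have hPne : P ≠ ⊥ := fun h => by rw [h, card_bot] at hD; omega
  set Z : Subgroup G := (center P).map P.subtype with hZdef
  haveI : Z.Normal := by rw [hZdef]; infer_instance
  have hZ4 : Nat.card Z = 4 := by
    rw [hZdef, card_map_of_injective P.subtype_injective]; exact hZ.card_four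
  have hZP : Z ≤ P := by rw [hZdef]; exact map_subtype_le _
  have hZsq : ∀ z ∈ Z, z * z = 1 := by
    rintro _ ⟨z, hz, rfl⟩
    haveI := hZ
    have := congrArg Subtype.val (IsKleinFour.mul_self (⟨z, hz⟩ : center P))
    exact congrArg Subtype.val this
  have hZcomm : ∀ z ∈ Z, ∀ q ∈ P, Commute z q := by
    rintro _ ⟨z, hz, rfl⟩ q hq
    exact (congrArg Subtype.val (mem_center_iff.1 hz ⟨q, hq⟩)).symm
  have hsup : ∀ n : G, orderOf n = 5 → P ⊔ zpowers n = ⊤ := by
    intro n hn
    have h1 := card_dvd_of_le (le_sup_left : P ≤ P ⊔ zpowers n)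
    have h2 := card_dvd_of_le (le_sup_right : zpowers n ≤ P ⊔ zpowers n)
    rw [hD] at h1
    rw [Nat.card_zpowers, hn] at h2
    have h3 : 320 ∣ Nat.card ↥(P ⊔ zpowers n) := Nat.Coprime.mul_dvd_of_dvd_of_dvd (by norm_num : Nat.Coprime 64 5) h1 h2
    exact eq_top_of_card_eq _ (Nat.dvd_antisymm (card_subgroup_dvd_card _) (hG ▸ h3))
  obtain ⟨s, hs⟩ := exists_prime_orderOf_dvd_card' (G := G) 5 (by rw [hG]; norm_num)
  have hZs : ∀ z ∈ Z, Commute s z := by
    have hm := card_modEq_fixed hs Z (mem_normalizer_of_normal Z s)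
    have hle := card_le_of_le (inf_le_left : Z ⊓ centralizer ({s} : Set G) ≤ Z)
    rw [hZ4] at hm hle
    have he : Z ⊓ centralizer ({s} : Set G) = Z := eq_of_le_of_card_ge inf_le_left (by
      rw [hZ4]; unfold Nat.ModEq at hm; omega)
    intro z hz
    rw [← he] at hz
    exact (mem_centralizer_singleton_iff.1 hz.2).symm
  have hZc : Z ≤ center G := by
    intro z hz
    rw [mem_center_iff]
    intro g
    have : P ⊔ zpowers s ≤ centralizer ({z} : Set G) :=
      sup_le (fun q hq => mem_centralizer_singleton_iff.2 (hZcomm z hz q hq).symm)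
        (zpowers_le.2 (mem_centralizer_singleton_iff.2 (hZs z hz)))
    rw [hsup s hs] at this
    exact mem_centralizer_singleton_iff.1 (this (mem_top g))
  -- the quotient by `Z`
  set π := QuotientGroup.mk' Z with hπ
  have hπs : Function.Surjective π := QuotientGroup.mk'_surjective Z
  have hker : π.ker = Z := QuotientGroup.ker_mk' Z
  have hπ1 : ∀ g, π g = 1 ↔ g ∈ Z := fun g => by rw [← MonoidHom.mem_ker, hker]
  set P' : Subgroup (G ⧸ Z) := P.map π with hP'
  haveI : P'.Normal := by rw [hP']; exact Normal.map inferInstance π hπs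
  have hP'16 : Nat.card P' = 16 := by
    have h1 := Subgroup.index_ker (π.domRestrict P)
    have h2 : (π.domRestrict P).ker = Z.subgroupOf P := by
      rw [MonoidHom.ker_domRestrict, hker]
    have h3 := (Z.subgroupOf P).card_mul_index
    rw [Nat.card_congr (subgroupOfEquivOfLe hZP).toEquiv, hZ4, hD, ← h2, h1, MonoidHom.domRestrict_range, ← hP'] at h3
    omega
  have hP'2 : IsPGroup 2 P' := hP2.map π
  have hP'D : commutator (G ⧸ Z) = P' := by
    rw [hP', hPdef, map_commutator_eq, MonoidHom.range_eq_top.2 hπs, _root_.commutator_def]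
  have hsZ : s ∉ Z := fun h => by
    have := orderOf_dvd_natCard (⟨s, h⟩ : Z)
    rw [hZ4, Subgroup.orderOf_mk, hs] at this
    norm_num at this
  have hs' : orderOf (π s) = 5 := orderOf_eq_prime (by rw [← map_pow, ← hs, pow_orderOf_eq_one, map_one])
    (fun h => hsZ ((hπ1 s).1 h))
  have hsup' : P' ⊔ zpowers (π s) = ⊤ := by
    rw [hP', ← MonoidHom.map_zpowers, ← Subgroup.map_sup, hsup s hs, map_top_of_surjective π hπs]
  have hfix : P' ⊓ centralizer ({π s} : Set (G ⧸ Z)) = ⊥ := by
    have hm := card_modEq_fixed hs' P' (mem_normalizer_of_normal P' _)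
    have hd := card_dvd_of_le (inf_le_left : P' ⊓ centralizer ({π s} : Set (G ⧸ Z)) ≤ P')
    rw [hP'16] at hm hd
    have hd' : Nat.card ↥(P' ⊓ centralizer ({π s} : Set (G ⧸ Z))) ∈ Nat.divisors 16 :=
      Nat.mem_divisors.2 ⟨hd, by norm_num⟩
    rw [show Nat.divisors 16 = {1, 2, 4, 8, 16} by decide] at hd'
    simp only [Finset.mem_insert, Finset.mem_singleton] at hd'
    rcases hd' with h | h | h | h | h <;> rw [h] at hm <;> try (unfold Nat.ModEq at hm; omega)
    · exact eq_bot_of_card_eq _ h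
    · exfalso
      have he : P' ⊓ centralizer ({π s} : Set (G ⧸ Z)) = P' := eq_of_le_of_card_ge inf_le_left (by rw [h, hP'16])
      refine not_centralize hP'2 (fun e => by rw [e, card_bot] at hP'16; omega) hP'D hsup' fun q hq => ?_
      rw [← he] at hq
      exact (mem_centralizer_singleton_iff.1 hq.2).symm
  have small : ∀ N : Subgroup (G ⧸ Z), N ≤ P' → π s ∈ normalizer (N : Set (G ⧸ Z)) → N ≠ ⊥ → N = P' := by
    intro N hN hn hne
    have hm := card_modEq_fixed hs' N hn
    have hb : N ⊓ centralizer ({π s} : Set (G ⧸ Z)) = ⊥ := le_bot_iff.1 (hfix ▸ inf_le_inf_right _ hN)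
    rw [hb, card_bot] at hm
    have hd := card_dvd_of_le hN
    rw [hP'16] at hd
    have hd' : Nat.card N ∈ Nat.divisors 16 := Nat.mem_divisors.2 ⟨hd, by norm_num⟩
    rw [show Nat.divisors 16 = {1, 2, 4, 8, 16} by decide] at hd'
    simp only [Finset.mem_insert, Finset.mem_singleton] at hd'
    rcases hd' with h | h | h | h | h <;> rw [h] at hm <;> try (unfold Nat.ModEq at hm; omega)
    · exact absurd (eq_bot_of_card_eq _ h) hne
    · exact eq_of_le_of_card_ge hN (by rw [h, hP'16])
  haveI : Nontrivial P' := Finite.one_lt_card_iff_nontrivial.1 (by rw [hP'16]; norm_num)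
  have hab : ∀ u ∈ P', ∀ v ∈ P', Commute u v := by
    haveI := hP'2.center_nontrivial
    have hne : (center P').map P'.subtype ≠ ⊥ := by
      rw [Ne, map_eq_bot_iff_of_injective _ P'.subtype_injective]
      exact (center P').nontrivial_iff_ne_bot.1 inferInstance
    have he := small _ (map_subtype_le _) (mem_normalizer_of_normal _ _) hne
    intro u hu v hv
    rw [← he] at hu
    obtain ⟨u', hu', rfl⟩ := hu
    exact (congrArg Subtype.val (mem_center_iff.1 hu' ⟨v, hv⟩)).symm
  have hel : ∀ u ∈ P', u * u = 1 := by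
    let Ω : Subgroup (G ⧸ Z) :=
      { carrier := {u | u ∈ P' ∧ u * u = 1}
        mul_mem' := fun {u v} hu hv => ⟨P'.mul_mem hu.1 hv.1, by
          rw [(hab v hv.1 u hu.1).mul_mul_mul_comm, hu.2, hv.2, mul_one]⟩
        one_mem' := ⟨P'.one_mem, mul_one 1⟩
        inv_mem' := fun {u} hu => ⟨P'.inv_mem hu.1, by rw [← mul_inv_rev, hu.2, inv_one]⟩ }
    haveI : Ω.Normal := ⟨fun u hu g => ⟨Normal.conj_mem inferInstance u hu.1 g, by
      rw [show g * u * g⁻¹ * (g * u * g⁻¹) = g * (u * u) * g⁻¹ by group, hu.2, mul_one, mul_inv_cancel]⟩⟩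
    obtain ⟨u, hu⟩ := exists_prime_orderOf_dvd_card' (G := P') 2 (by rw [hP'16]; norm_num)
    have hne : Ω ≠ ⊥ := fun h => by
      have hm : (u : G ⧸ Z) ∈ Ω := ⟨u.2, by
        rw [← pow_two, ← hu, ← Subgroup.orderOf_coe, pow_orderOf_eq_one]⟩
      rw [h, mem_bot] at hm
      rw [show u = 1 from Subtype.ext hm, orderOf_one] at hu
      norm_num at hu
    have he := small Ω (fun u hu => hu.1) (mem_normalizer_of_normal _ _) hne
    intro v hv
    rw [← he] at hv
    exact hv.2
  -- generators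
  obtain ⟨x, hxP, hxZ⟩ := SetLike.exists_of_lt (lt_of_le_of_ne hZP (fun h => by rw [h] at hZ4; omega))
  have hs5 : s ^ 5 = 1 := hs ▸ pow_orderOf_eq_one s
  let σ : G ≃* G := MulAut.conj s
  let x1 := σ x; let x2 := σ x1; let x3 := σ x2; let x4 := σ x3
  have hσP : ∀ g ∈ P, σ g ∈ P := fun g hg => Normal.conj_mem inferInstance g hg s
  have h5 : σ x4 = x := by
    show s * (s * (s * (s * (s * x * s⁻¹) * s⁻¹) * s⁻¹) * s⁻¹) * s⁻¹ = x
    calc _ = s ^ 5 * x * (s ^ 5)⁻¹ := by
          simp only [pow_succ, pow_zero, one_mul, mul_assoc, mul_inv_rev]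
      _ = x := by rw [hs5]; simp
  set p := x * (x1 * (x2 * x3)) with hp
  have hz : p⁻¹ * x4 ∈ Z := by
    rw [← hπ1]
    have m0 : π x ∈ P' := mem_map_of_mem π hxP
    have m1 : π x1 ∈ P' := mem_map_of_mem π (hσP _ hxP)
    have m2 : π x2 ∈ P' := mem_map_of_mem π (hσP _ (hσP _ hxP))
    have m3 : π x3 ∈ P' := mem_map_of_mem π (hσP _ (hσP _ (hσP _ hxP)))
    have m4 : π x4 ∈ P' := mem_map_of_mem π (hσP _ (hσP _ (hσP _ (hσP _ hxP))))
    have cj : ∀ g, π (σ g) = MulAut.conj (π s) (π g) := fun g => by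
      simp only [σ, MulAut.conj_apply, map_mul, map_inv]
    have hq : π p * π x4 ∈ P' ⊓ centralizer ({π s} : Set (G ⧸ Z)) := by
      have hpP : π p ∈ P' := by
        simp only [hp, map_mul]; exact P'.mul_mem m0 (P'.mul_mem m1 (P'.mul_mem m2 m3))
      refine Subgroup.mem_inf.2 ⟨P'.mul_mem hpP m4, mem_centralizer_singleton_iff.2 ?_⟩
      have key : MulAut.conj (π s) (π p * π x4) = π p * π x4 := by
        simp only [hp, map_mul, ← cj, h5]
        show π x1 * (π x2 * (π x3 * π x4)) * π x = π x * (π x1 * (π x2 * π x3)) * π x4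
        rw [(hab _ (P'.mul_mem m1 (P'.mul_mem m2 (P'.mul_mem m3 m4))) _ m0).eq]
        simp only [mul_assoc]
      rw [MulAut.conj_apply, mul_inv_eq_iff_eq_mul] at key
      exact key.symm
    rw [hfix, mem_bot] at hq
    rw [map_mul, map_inv, ← hq]
    have hpP : π p ∈ P' := by
      simp only [hp, map_mul]; exact P'.mul_mem m0 (P'.mul_mem m1 (P'.mul_mem m2 m3))
    rw [inv_eq_of_mul_eq_one_right (hel _ hpP)]
  set z := p⁻¹ * x4 with hzdef
  have hzc : z ∈ center G := hZc hz
  have hσz : σ z = z := by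
    show s * z * s⁻¹ = z
    rw [mem_center_iff.1 hzc s, mul_inv_cancel_right]
  let y0 := x * z; let y1 := σ y0; let y2 := σ y1; let y3 := σ y2; let y4 := σ y3
  have e1 : y1 = x1 * z := by show σ (x * z) = _; rw [map_mul, hσz]
  have e2 : y2 = x2 * z := by show σ y1 = _; rw [e1, map_mul, hσz]
  have e3 : y3 = x3 * z := by show σ y2 = _; rw [e2, map_mul, hσz]
  have e4 : y4 = x4 * z := by show σ y3 = _; rw [e3, map_mul, hσz]
  have e5 : σ y4 = y0 := by rw [e4, map_mul, hσz, h5]
  have hσeq : ∀ g, s * g = σ g * s := fun g => by show s * g = s * g * s⁻¹ * s; group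
  have hy4 : y4 = y0 * (y1 * (y2 * y3)) := by
    rw [e4, e1, e2, e3]
    have hx4 : x4 = p * z := (mul_inv_cancel_left p x4).symm
    have lz : ∀ u t, u * (z * t) = z * (u * t) := fun u t => by
      rw [← mul_assoc, mem_center_iff.1 hzc u, mul_assoc]
    have qz : ∀ t, z * (z * t) = t := fun t => by rw [← mul_assoc, hZsq z hz, one_mul]
    rw [hx4, hp]
    show _ = x * z * (x1 * z * (x2 * z * (x3 * z)))
    simp only [mul_assoc, lz x, lz x1, lz x2, lz x3, qz, hZsq z hz, mul_one, mem_center_iff.1 hzc x3]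
  have hy0P : y0 ∈ P := P.mul_mem hxP (hZP hz)
  have hy1P : y1 ∈ P := hσP _ hy0P
  have hy2P : y2 ∈ P := hσP _ hy1P
  have hy3P : y3 ∈ P := hσP _ hy2P
  have hcomm : ∀ u ∈ P, ∀ v ∈ P, ⁅u, v⁆ ∈ Z := fun u hu v hv => by
    rw [← hπ1, map_commutatorElement, commutatorElement_eq_one_iff_commute]
    exact hab _ (mem_map_of_mem π hu) _ (mem_map_of_mem π hv)
  have hmv : ∀ u v : G, u * v = ⁅u, v⁆ * (v * u) := fun u v => by rw [commutatorElement_def]; group
  have ha : y0 * y0 ∈ Z := by rw [← hπ1, map_mul]; exact hel _ (mem_map_of_mem π hy0P)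
  have hb := hcomm _ hy1P _ hy0P
  have hc := hcomm _ hy2P _ hy0P
  have hd := hcomm _ hy3P _ hy0P
  have R : Rel (y0 * y0) ⁅y1, y0⁆ y0 y1 y2 y3 s :=
    rel_of (hσeq y0) (hσeq y1) (hσeq y2) (hσeq y3) (by rw [hσeq y4, e5]) hy4 (hZc ha) (hZc hb) (hZc hc)
      (hZc hd) (hZsq _ ha) (hZsq _ hb) (hZsq _ hc) (hZsq _ hd) rfl (hmv _ _) (hmv _ _) (hmv _ _) hs5
  have hy0Z : y0 ∉ Z := fun h => hxZ (by
    have := Z.mul_mem h hz
    rwa [mul_assoc, hZsq z hz, mul_one] at this)
  have hgen : closure ({y0, s} : Set G) = ⊤ := by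
    set W := closure ({y0, s} : Set G) with hW
    have hyW : y0 ∈ W := subset_closure (Or.inl rfl)
    have hsW : s ∈ W := subset_closure (Or.inr rfl)
    have hn : π s ∈ normalizer ((W.map π ⊓ P' : Subgroup (G ⧸ Z)) : Set (G ⧸ Z)) := by
      rw [mem_normalizer_iff]
      intro u
      have hsm : π s ∈ W.map π := mem_map_of_mem π hsW
      simp only [Subgroup.mem_inf]
      constructor
      · rintro ⟨h1, h2⟩
        exact ⟨(W.map π).mul_mem ((W.map π).mul_mem hsm h1) ((W.map π).inv_mem hsm),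
          Normal.conj_mem inferInstance u h2 _⟩
      · rintro ⟨h1, h2⟩
        have e : u = (π s)⁻¹ * (π s * u * (π s)⁻¹) * π s := by group
        refine ⟨?_, ?_⟩
        · rw [e]; exact (W.map π).mul_mem ((W.map π).mul_mem ((W.map π).inv_mem hsm) h1) hsm
        · rw [e]; exact Normal.conj_mem' inferInstance _ h2 _
    have hne : W.map π ⊓ P' ≠ ⊥ := fun h => by
      have : π y0 ∈ W.map π ⊓ P' := ⟨mem_map_of_mem π hyW, mem_map_of_mem π hy0P⟩
      rw [h, mem_bot, hπ1] at this
      exact hy0Z this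
    have he := small _ inf_le_right hn hne
    have htop : W ⊔ Z = ⊤ := by
      have hmap : W.map π = ⊤ := eq_top_iff.2 (hsup' ▸ sup_le (he ▸ inf_le_left)
        (zpowers_le.2 (mem_map_of_mem π hsW)))
      rw [← hker, ← comap_map_eq, hmap, comap_top]
    have hPW : P ≤ W := by
      rw [hPdef, _root_.commutator_def, commutator_le]
      intro g _ h _
      have hg : g ∈ ((W ⊔ Z : Subgroup G) : Set G) := by rw [htop]; exact mem_top g
      have hh : h ∈ ((W ⊔ Z : Subgroup G) : Set G) := by rw [htop]; exact mem_top h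
      rw [Subgroup.mul_normal] at hg hh
      obtain ⟨u, hu, u', hu', rfl⟩ := Set.mem_mul.1 hg
      obtain ⟨v, hv, v', hv', rfl⟩ := Set.mem_mul.1 hh
      rw [comm_absorb (mem_center_iff.1 (hZc hu') v).symm (mem_center_iff.1 (hZc hv') u).symm
        (mem_center_iff.1 (hZc hu') v').symm]
      exact W.commutator_le_self (commutator_mem_commutator hu hv)
    exact eq_top_iff.2 (hsup s hs ▸ sup_le hPW (zpowers_le.2 hsW))
  obtain ⟨na, nb, nab⟩ := R.distinct hgen hG
  have hZel : ∀ w ∈ Z, w ≠ 1 → w = y0 * y0 ∨ w = ⁅y1, y0⁆ ∨ w = y0 * y0 * ⁅y1, y0⁆ := by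
    intro w hw hw1
    by_contra hno
    simp only [not_or] at hno
    obtain ⟨n1, n2, n3⟩ := hno
    have nab1 : y0 * y0 * ⁅y1, y0⁆ ≠ 1 := fun h => nab (mul_right_cancel (h.trans R.bb.symm))
    have hsub : ({1, y0 * y0, ⁅y1, y0⁆, y0 * y0 * ⁅y1, y0⁆, w} : Finset G) ⊆ (Z : Set G).toFinite.toFinset := by
      intro u hu
      simp only [Finset.mem_insert, Finset.mem_singleton] at hu
      rw [Set.Finite.mem_toFinset]
      rcases hu with rfl | rfl | rfl | rfl | rfl
      exacts [Z.one_mem, ha, hb, Z.mul_mem ha hb, hw]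
    have h5 : ({1, y0 * y0, ⁅y1, y0⁆, y0 * y0 * ⁅y1, y0⁆, w} : Finset G).card = 5 := by
      rw [Finset.card_insert_of_notMem, Finset.card_insert_of_notMem, Finset.card_insert_of_notMem,
        Finset.card_insert_of_notMem, Finset.card_singleton] <;>
        simp [Ne.symm n1, Ne.symm n2, Ne.symm n3, Ne.symm na, Ne.symm nb, nab, Ne.symm nab1, Ne.symm hw1, na, nb]
    have := Finset.card_le_card hsub
    rw [h5, ← Nat.card_eq_card_finite_toFinset] at this
    change 5 ≤ Nat.card Z at this
    omega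
  refine ⟨_, _, y0, y1, y2, y3, s, R, hgen, fun N hN hne => ?_⟩
  haveI := hN
  obtain ⟨w, hwN, hwZ, hw1⟩ : ∃ w ∈ N, w ∈ Z ∧ w ≠ 1 := by
    by_cases hNP : N ⊓ P = ⊥
    · exfalso
      obtain ⟨⟨n, hnN⟩, hn1'⟩ := N.ne_bot_iff_exists_ne_one.1 hne
      have hn1 : n ≠ 1 := fun h => hn1' (Subtype.ext h)
      have hidx : P.index = 5 := by
        have := P.card_mul_index
        rw [hD, hG] at this
        omega
      have hn5 : n ^ 5 = 1 := by
        have h : n ^ 5 ∈ N ⊓ P := ⟨N.pow_mem hnN 5, hidx ▸ P.pow_index_mem n⟩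
        rwa [hNP, mem_bot] at h
      refine not_centralize hP2 hPne rfl (hsup n (orderOf_eq_prime hn5 hn1)) fun q hq => ?_
      exact commute_of_normal_of_disjoint N P inferInstance inferInstance (disjoint_iff.2 hNP) n q hnN hq
    · by_cases hN' : (N ⊓ P).map π = ⊥
      · obtain ⟨⟨w, hw⟩, hw1'⟩ := (N ⊓ P).ne_bot_iff_exists_ne_one.1 hNP
        exact ⟨w, hw.1, (hπ1 w).1 (by
          have := mem_map_of_mem π hw
          rwa [hN', mem_bot] at this), fun h => hw1' (Subtype.ext h)⟩
      · haveI : ((N ⊓ P).map π).Normal := Normal.map inferInstance π hπs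
        have he := small _ (map_mono inf_le_right) (mem_normalizer_of_normal _ _) hN'
        refine ⟨⁅y1, y0⁆, ?_, hb, nb⟩
        have hy : ∀ y ∈ P, ∃ n ∈ N, ∃ u ∈ center G, y = n * u := by
          intro y hy
          have h1 : π y ∈ (N ⊓ P).map π := he ▸ mem_map_of_mem π hy
          obtain ⟨n, hn, hny⟩ := h1
          exact ⟨n, hn.1, n⁻¹ * y, hZc ((hπ1 _).1 (by rw [map_mul, map_inv, hny, inv_mul_cancel])),
            (mul_inv_cancel_left n y).symm⟩
        obtain ⟨n, hn, u, hu, rfl'⟩ := hy y1 hy1P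
        obtain ⟨m, hm, v, hv, rfl''⟩ := hy y0 hy0P
        rw [rfl', rfl'', comm_absorb (mem_center_iff.1 hu m).symm (mem_center_iff.1 hv n).symm
          (mem_center_iff.1 hu v).symm, commutatorElement_def]
        exact N.mul_mem (N.mul_mem (N.mul_mem hn hm) (N.inv_mem hn)) (N.inv_mem hm)
  rcases hZel w hwZ hw1 with rfl | rfl | rfl
  exacts [Or.inl hwN, Or.inr (Or.inl hwN), Or.inr (Or.inr hwN)]

end Cfsg.Agent.Lib.Tech42.Order320
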