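import Cfsg.Agent.Lib.U34.Main
import Cfsg.Agent.Lib.Tech42.Order320.Data
import Cfsg.Agent.Lib.Tech42.Order320.Structure

/-!
The centralizer of an involution in `SU₃(4)`.

Owner: helper42.
-/

set_option autoImplicit false
set_option maxRecDepth 100000
set_option linter.style.haveILetI false

namespace Cfsg.Agent.Lib.Tech42.Order320

open Cfsg.Agent.Lib.U34 (goodN eqProd el el_mul el_idN idN ent allLt allLt_spec field all3 all3_spec el_coe)

/-- Code from the entries. -/
def recode (A : Nat) : Nat :=
  ent A 0 0 + 16 * (ent A 0 1 + 16 * (ent A 0 2 + 16 * (ent A 1 0 + 16 * (ent A 1 1 + 16 * (ent A 1 2 +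
    16 * (ent A 2 0 + 16 * (ent A 2 1 + 16 * ent A 2 2)))))))

theorem el_injective {A B : Nat} (hA : goodN A = true) (hB : goodN B = true) (cA : recode A = A)
    (cB : recode B = B) (h : el A = el B) : A = B := by
  have key : ∀ i j : Fin 3, ent A i.val j.val = ent B i.val j.val := by
    intro i j
    cases hb : (ent A i.val j.val == ent B i.val j.val) with
    | true => exact beq_iff_eq.1 hb
    | false => exact absurd h (U34.el_ne hA hB i j hb)
  have h00 := key 0 0
  have h01 := key 0 1
  have h02 := key 0 2
  have h10 := key 1 0
  have h11 := key 1 1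
  have h12 := key 1 2
  have h20 := key 2 0
  have h21 := key 2 1
  have h22 := key 2 2
  simp only [Fin.val_zero, Fin.val_one, Fin.val_two] at h00 h01 h02 h10 h11 h12 h20 h21 h22
  rw [← cA, ← cB, recode, recode, h00, h01, h02, h10, h11, h12, h20, h21, h22]

/-- The product code. -/
def mulC (A B : Nat) : Nat :=
  U34.prodE A B 0 0 + 16 * (U34.prodE A B 0 1 + 16 * (U34.prodE A B 0 2 + 16 * (U34.prodE A B 1 0 +
    16 * (U34.prodE A B 1 1 + 16 * (U34.prodE A B 1 2 + 16 * (U34.prodE A B 2 0 +
      16 * (U34.prodE A B 2 1 + 16 * U34.prodE A B 2 2)))))))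

/-- `A * B` has code `C`. -/
def isProd (A B C : Nat) : Bool :=
  goodN A && (goodN B && (goodN C && eqProd A B C idN))

theorem isProd_spec {A B C : Nat} (h : isProd A B C = true) : el A * el B = el C := by
  simp only [isProd, Bool.and_eq_true] at h
  rw [el_mul h.1 h.2.1 h.2.2.1 U34.id_good h.2.2.2, el_idN, mul_one]

theorem comm_spec {A B : Nat} (hA : goodN A = true) (hB : goodN B = true) (h : eqProd A B B A = true) :
    Commute (el A) (el B) :=
  el_mul hA hB hB hA h

theorem good_gens :
    (goodN tN && goodN sN && goodN aN && goodN bN && goodN abN && goodN x0N && goodN x1N && goodN x2N &&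
      goodN x3N) = true := by decide +kernel

theorem rel_target : Rel (el aN) (el bN) (el x0N) (el x1N) (el x2N) (el x3N) (el sN) := by
  have hg := good_gens
  simp only [Bool.and_eq_true] at hg
  obtain ⟨⟨⟨⟨⟨⟨⟨⟨ht, hs⟩, ha⟩, hb⟩, hab⟩, h0⟩, h1⟩, h2⟩, h3⟩ := hg
  have hP : ∀ {A B C : Nat}, isProd A B C = true → el A * el B = el C := isProd_spec
  have hone : ∀ {A B : Nat}, isProd A B idN = true → el A * el B = 1 := fun h => (hP h).trans el_idN
  have ab' : el aN * el bN = el abN := hP (by decide +kernel)
  refine ⟨hone (by decide +kernel), hone (by decide +kernel),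
    comm_spec ha hb (by decide +kernel), comm_spec hs ha (by decide +kernel),
    comm_spec hs hb (by decide +kernel), comm_spec h0 ha (by decide +kernel),
    comm_spec h1 ha (by decide +kernel), comm_spec h2 ha (by decide +kernel),
    comm_spec h3 ha (by decide +kernel), comm_spec h0 hb (by decide +kernel),
    comm_spec h1 hb (by decide +kernel), comm_spec h2 hb (by decide +kernel),
    comm_spec h3 hb (by decide +kernel),
    hP (by decide +kernel), hP (by decide +kernel), hP (by decide +kernel), hP (by decide +kernel),
    ?_, ?_, ?_, ?_, ?_, ?_,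
    el_mul hs h0 h1 hs (by decide +kernel), el_mul hs h1 h2 hs (by decide +kernel),
    el_mul hs h2 h3 hs (by decide +kernel), ?_, ?_⟩
  · rw [hP (show isProd x1N x0N (mulC x1N x0N) = true by decide +kernel),
      hP (show isProd x0N x1N (mulC x0N x1N) = true by decide +kernel)]
    exact (hP (by decide +kernel)).symm
  · rw [hP (show isProd x2N x1N (mulC x2N x1N) = true by decide +kernel),
      hP (show isProd x1N x2N (mulC x1N x2N) = true by decide +kernel)]
    exact (hP (by decide +kernel)).symm
  · rw [hP (show isProd x3N x2N (mulC x3N x2N) = true by decide +kernel),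
      hP (show isProd x2N x3N (mulC x2N x3N) = true by decide +kernel)]
    exact (hP (by decide +kernel)).symm
  · rw [← mul_assoc (el aN), ab', hP (show isProd x2N x0N (mulC x2N x0N) = true by decide +kernel),
      hP (show isProd x0N x2N (mulC x0N x2N) = true by decide +kernel)]
    exact (hP (by decide +kernel)).symm
  · rw [← mul_assoc (el aN), ab', hP (show isProd x3N x1N (mulC x3N x1N) = true by decide +kernel),
      hP (show isProd x1N x3N (mulC x1N x3N) = true by decide +kernel)]
    exact (hP (by decide +kernel)).symm
  · rw [← mul_assoc (el aN), ab', hP (show isProd x3N x0N (mulC x3N x0N) = true by decide +kernel),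
      hP (show isProd x0N x3N (mulC x0N x3N) = true by decide +kernel)]
    exact (hP (by decide +kernel)).symm
  · rw [← mul_assoc (el x2N), ← mul_assoc (el x1N), ← mul_assoc (el x0N),
      hP (show isProd x2N x3N (mulC x2N x3N) = true by decide +kernel),
      hP (show isProd x1N (mulC x2N x3N) (mulC x1N (mulC x2N x3N)) = true by decide +kernel),
      hP (show isProd x0N (mulC x1N (mulC x2N x3N)) (mulC x0N (mulC x1N (mulC x2N x3N))) = true by
        decide +kernel)]
    exact el_mul hs h3 (by decide +kernel) hs (by decide +kernel)
  · simp only [pow_succ, pow_zero, one_mul]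
    rw [hP (show isProd sN sN (mulC sN sN) = true by decide +kernel),
      hP (show isProd (mulC sN sN) sN (mulC (mulC sN sN) sN) = true by decide +kernel),
      hP (show isProd (mulC (mulC sN sN) sN) sN (mulC (mulC (mulC sN sN) sN) sN) = true by decide +kernel)]
    exact hone (by decide +kernel)

theorem comm_t : Commute (el x0N) (el tN) ∧ Commute (el sN) (el tN) :=
  ⟨comm_spec (by decide +kernel) (by decide +kernel) (by decide +kernel),
    comm_spec (by decide +kernel) (by decide +kernel) (by decide +kernel)⟩

theorem target_ne : el aN ≠ 1 ∧ el bN ≠ 1 ∧ el aN * el bN ≠ 1 := by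
  rw [isProd_spec (show isProd aN bN abN = true by decide +kernel), ← el_idN]
  refine ⟨?_, ?_, ?_⟩ <;> intro h <;>
    have e := el_injective (by decide +kernel) (by decide +kernel) (by decide +kernel) (by decide +kernel) h <;>
    exact absurd e (by decide +kernel)

theorem order_t : orderOf (el tN) = 2 := by
  have h : el tN * el tN = 1 :=
    (isProd_spec (show isProd tN tN idN = true by decide +kernel)).trans el_idN
  refine orderOf_eq_prime (by rw [pow_two, h]) fun e => ?_
  rw [← el_idN] at e
  exact absurd (el_injective (by decide +kernel) (by decide +kernel) (by decide +kernel) (by decide +kernel) e)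
    (by decide +kernel)

def classN (i : Nat) : Nat := field 36 classD i
def conjN' (i : Nat) : Nat := field 36 conjD i

theorem class_ok :
    allLt 195 (fun i => goodN (classN i) && (goodN (conjN' i) && ((recode (classN i) == classN i) &&
      eqProd (conjN' i) tN (classN i) (conjN' i)))) = true := by decide +kernel

theorem class_lt : allLt 194 (fun i => decide (classN i < classN (i + 1))) = true := by decide +kernel

theorem card_centralizer_le :
    Nat.card (Subgroup.centralizer ({el tN} : Set U34.G)) ≤ 320 := by
  classical
  set C := Subgroup.centralizer ({el tN} : Set U34.G) with hC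
  have hok : ∀ i, i < 195 → goodN (classN i) = true ∧ recode (classN i) = classN i ∧
      el (conjN' i) * el tN * (el (conjN' i))⁻¹ = el (classN i) := by
    intro i hi
    have h := allLt_spec class_ok hi
    simp only [Bool.and_eq_true, beq_iff_eq] at h
    exact ⟨h.1, h.2.2.1, mul_inv_eq_iff_eq_mul.2 (el_mul h.2.1 (by decide +kernel) h.1 h.2.1 h.2.2.2)⟩
  have hmono : ∀ i j, i < j → j < 195 → classN i < classN j := by
    intro i j hij
    induction hij with
    | refl => exact fun h => of_decide_eq_true (allLt_spec class_lt (i := i) (by omega))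
    | step _ ih =>
      intro h
      exact (ih (by omega)).trans (of_decide_eq_true (allLt_spec class_lt (by omega)))
  have hinj : Function.Injective
      (fun i : Fin 195 => (QuotientGroup.mk (el (conjN' i.val)) : U34.G ⧸ C)) := by
    intro i j h
    have hm : (el (conjN' i.val))⁻¹ * el (conjN' j.val) ∈ C := QuotientGroup.eq.1 h
    rw [hC, Subgroup.mem_centralizer_singleton_iff] at hm
    obtain ⟨gi, ci, ei⟩ := hok i.val i.2
    obtain ⟨gj, cj, ej⟩ := hok j.val j.2
    have e : el (classN i.val) = el (classN j.val) := by
      rw [← ei, ← ej]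
      calc el (conjN' i.val) * el tN * (el (conjN' i.val))⁻¹
          = el (conjN' i.val) * (el tN * ((el (conjN' i.val))⁻¹ * el (conjN' j.val))) *
              (el (conjN' j.val))⁻¹ := by simp only [mul_assoc, mul_inv_cancel, mul_one]
        _ = el (conjN' i.val) * (((el (conjN' i.val))⁻¹ * el (conjN' j.val)) * el tN) *
              (el (conjN' j.val))⁻¹ := by rw [hm]
        _ = _ := by simp only [mul_assoc, mul_inv_cancel_left]
    have e' := el_injective gi gj ci cj e
    rcases lt_trichotomy i.val j.val with hlt | heq | hgt
    · exact absurd e' (hmono _ _ hlt j.2).ne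
    · exact Fin.ext heq
    · exact absurd e'.symm (hmono _ _ hgt i.2).ne
  have h195 : 195 ≤ Nat.card (U34.G ⧸ C) := by
    simpa using Nat.card_le_card_of_injective _ hinj
  have hmul := C.card_eq_card_quotient_mul_card_subgroup
  rw [U34.card_G] at hmul
  nlinarith

end Cfsg.Agent.Lib.Tech42.Order320
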